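import Mathlib
import Groth.Prelude.Def_PBC
import Groth.Agent.Hensel20.PairEtale
import Groth.Agent.Hensel20.PairApi

set_option autoImplicit false
universe u
open CategoryTheory CategoryTheory.Limits

namespace Groth.Agent.IndEt3

/-- Maps from an ind-etale algebra to a henselian local ring with prescribed reduction. -/
theorem existsUnique_algHom {R S S' K : Type u} [CommRing R] [CommRing S] [CommRing S'] [Field K]
    [HenselianLocalRing S'] [Algebra R S] [Algebra R S'] [Algebra R K] (hS : EtPBC.IsIndEtale R S)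
    (u : S →ₐ[R] K) (u' : S' →ₐ[R] K) (hu' : Function.Surjective u')
    (hku' : RingHom.ker u'.toRingHom = IsLocalRing.maximalIdeal S') :
    ∃! f : S →ₐ[R] S', u'.comp f = u := by
  obtain ⟨J, _, _, D, c, hc, het, ⟨i⟩⟩ := hS
  letI alg : ∀ j, Algebra R (D.obj j).right := fun j => (D.obj j).hom.hom.toAlgebra
  haveI : ∀ j, Algebra.Etale R (D.obj j).right := het
  let m := IsLocalRing.maximalIdeal S'
  let χ : (S' ⧸ m) ≃ₐ[R] K :=
    (Ideal.quotientEquivAlgOfEq R hku'.symm).trans (Ideal.quotientKerAlgEquivOfSurjective hu')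
  have hχ : ∀ s, χ (Ideal.Quotient.mk m s) = u' s := fun s => rfl
  let ι : ∀ j, (D.obj j).right →ₐ[R] S := fun j =>
    { (c.ι.app j ≫ i.hom).right.hom with
      commutes' := fun r => RingHom.congr_fun
        (congrArg CommRingCat.Hom.hom (Under.w (c.ι.app j ≫ i.hom))) r }
  have huniq : ∀ j (f g : (D.obj j).right →ₐ[R] S'), (∀ x, u' (f x) = u' (g x)) → f = g := by
    intro j f g h
    refine Groth.Agent.Hensel20.algHom_eq_of_unramified f g (J := m)
      (le_of_eq (IsLocalRing.jacobson_eq_maximalIdeal ⊥ bot_ne_top).symm) fun x => ?_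
    rw [show m = RingHom.ker u'.toRingHom from hku'.symm, RingHom.mem_ker]
    simp [h x]
  have hτ : ∀ j, ∃ τ : (D.obj j).right →ₐ[R] S', ∀ x, u' (τ x) = u (ι j x) := by
    intro j
    obtain ⟨τ, hτ⟩ := Groth.Agent.Hensel20.exists_algHom_lift m
      (χ.symm.toAlgHom.comp (u.comp (ι j)))
    refine ⟨τ, fun x => ?_⟩
    have h := DFunLike.congr_fun hτ x
    rw [AlgHom.comp_apply, Ideal.Quotient.mkₐ_eq_mk] at h
    rw [← hχ, h]
    simp
  choose τ hτ using hτ
  let c' : Cocone D :=
    { pt := Under.mk (CommRingCat.ofHom (algebraMap R S'))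
      ι :=
        { app := fun j => Under.homMk (CommRingCat.ofHom (τ j).toRingHom)
            (CommRingCat.hom_ext (τ j).comp_algebraMap)
          naturality := fun j k φ => by
            let φ' : (D.obj j).right →ₐ[R] (D.obj k).right :=
              { (D.map φ).right.hom with
                commutes' := fun r => RingHom.congr_fun
                  (congrArg CommRingCat.Hom.hom (Under.w (D.map φ))) r }
            have h := huniq j ((τ k).comp φ') (τ j) fun x => by
              rw [AlgHom.comp_apply, hτ, hτ]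
              refine congrArg u ?_
              exact RingHom.congr_fun (congrArg (fun g => CommRingCat.Hom.hom g.right)
                (congrArg (· ≫ i.hom) (c.w φ))) x
            refine Under.UnderMorphism.ext (CommRingCat.hom_ext (RingHom.ext fun x => ?_))
            exact DFunLike.congr_fun h x } }
  let F := i.inv ≫ hc.desc c'
  let f : S →ₐ[R] S' :=
    { F.right.hom with
      commutes' := fun r => RingHom.congr_fun (congrArg CommRingCat.Hom.hom (Under.w F)) r }
  have hhom : ∀ (P : Type u) [CommRing P] [Algebra R P] (g₁ g₂ : S →ₐ[R] P),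
      (∀ j x, g₁ (ι j x) = g₂ (ι j x)) → g₁ = g₂ := by
    intro P _ _ g₁ g₂ h
    let G : (S →ₐ[R] P) → (Under.mk (CommRingCat.ofHom (algebraMap R S)) ⟶
        Under.mk (CommRingCat.ofHom (algebraMap R P))) := fun g =>
      Under.homMk (CommRingCat.ofHom g.toRingHom) (CommRingCat.hom_ext g.comp_algebraMap)
    have h' : i.hom ≫ G g₁ = i.hom ≫ G g₂ := hc.hom_ext fun j =>
      Under.UnderMorphism.ext (CommRingCat.hom_ext (RingHom.ext fun x => h j x))
    have h'' := (cancel_epi i.hom).mp h'
    exact AlgHom.ext fun x =>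
      RingHom.congr_fun (congrArg (fun g => CommRingCat.Hom.hom g.right) h'') x
  have hf : ∀ j x, f (ι j x) = τ j x := by
    intro j x
    have h : (c.ι.app j ≫ i.hom) ≫ F = c'.ι.app j := by
      simp [F, hc.fac]
    exact RingHom.congr_fun (congrArg (fun g => CommRingCat.Hom.hom g.right) h) x
  refine ⟨f, hhom K _ _ fun j x => ?_, fun g hg => hhom S' g f fun j x => ?_⟩
  · rw [AlgHom.comp_apply, hf, hτ]
  · have := huniq j (g.comp (ι j)) (τ j) fun y => by
      rw [AlgHom.comp_apply, hτ, ← DFunLike.congr_fun hg (ι j y), AlgHom.comp_apply]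
    rw [hf]
    exact DFunLike.congr_fun this x

end Groth.Agent.IndEt3
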